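import Cfsg.Agent.Lib.Spor.TC.Signed

/-!
The product of two lifts of transvections is the third one: tables found by a computer search.
-/

set_option autoImplicit false
set_option maxRecDepth 100000

namespace CfsgLib.Spor.HSType.Cert.K0Prod

open CfsgLib.Spor.TC

def edgeTbl : Tbl :=
  (.bin (.bin (.tip 0x1d0001e20001c0001d20001b0001c20001a0001b2000190001a200019000145000010001920001800000200017000182000160001720001500016200014000152000130001420000000013200011000125000100001120000f0001060000e0000f50000d0000e30000c0000d40000b0000c20000a0000b6000090000a5000080000930000700008500006000075000050000620000400005400003000047000020000330000100002400000000014) (.tip 0x100000120001e00010800011000018000120000080003100018800030000178000170001040002b0001780003400010800033000218000200001580002200016800034000175000330003420001a00016500033000155000320003320001300032400031000122000300003120002f0003020002e0002f20002d0002e2)) (.bin (.tip 0x2c0002d2000120002c200010000213000100002880000f0002870002a0000f80002b0001040000e0002b60002a0000b2000280002a60000b0000a6000050000a300029000058000270000a80000a000292000060000840002100028200005000216000270000520002600027200025000262000240002520002300024200006000232000220001f5000200002220002100003400020000214000030002040001f0001a5000020001f20001e000012)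 .none))

def nodeTbl : Tbl :=
  (.bin (.tip 0x220001d20001c20001b20001a20001920000120001720001620001520001420001320000020001150001020000f60000e50000d30000c40000b20000a6000095000083000075000065000052000044000037000023000014000004000000) (.tip 0x3320003220001340003020002f20002e20002d20002c20001220000e60002860000a2000212000262000252000242000232000062000202000204000034))

def rowTbl : Tbl :=
  .none

/-- The relators. -/
def rels : List (List ℕ) := [
  [0, 0, 0, 0],
  [2, 2, 2, 2, 2, 2, 2],
  [4, 4, 4],
  [4, 2, 5, 3, 3],
  [4, 0, 5, 1],
  [0, 2, 0, 3, 1, 2, 1, 3],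
  [0, 2, 2, 0, 3, 3, 1, 2, 2, 1, 3, 3],
  [2, 0, 3, 2, 2, 0, 3, 3, 2, 1, 3, 2, 2, 1, 3, 3],
  [2, 2, 2, 0, 3, 3, 3, 2, 2, 1, 3, 3, 2, 2, 1, 3, 3, 2, 1, 3, 2, 1, 3, 2, 1, 3, 1],
  [6, 4, 7, 4],
  [6, 0, 7, 0],
  [6, 2, 0, 3, 7, 2, 2, 1, 3, 3],
  [6, 6],
  [2, 6, 2, 6, 2, 6]]

/-- The generators of the subgroup. -/
def subs : List (List ℕ) := []

/-- The certificate. -/
noncomputable def cert : Cert :=
  ⟨8, rels, subs, edgeTbl.get 44, nodeTbl.get 24, rowTbl.get 20⟩

/-- The word traced into the subgroup. -/
def target : List ℕ := [4, 4, 3, 7, 4, 2, 5, 5, 3, 5, 6, 2, 4, 3, 5, 6, 2, 5]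

end CfsgLib.Spor.HSType.Cert.K0Prod
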