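import Cfsg.Agent.Lib.Spor.HSType.Cert.K0Prod.Data

/-!
Checks of a part of the derivation.
-/

set_option autoImplicit false

namespace CfsgLib.Spor.HSType.Cert.K0Prod

open CfsgLib.Spor.TC

def scodes0 : List ℕ := [
  0x1,
  0x1,
  0x1,
  0x1,
  0x1,
  0x1,
  0x1,
  0x1,
  0x1,
  0x1,
  0x1,
  0x1,
  0x1,
  0x1,
  0x1,
  0x1,
  0x1,
  0x1,
  0x1,
  0x1,
  0x1,
  0x1,
  0x1,
  0x1,
  0x26000280002a0002c0002e0003000007000010000200002,
  0x1,
  0x2700025000020003400003000010000400002,
  0x1,
  0x1,
  0x1,
  0x1,
  0x1,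
  0x34000380003a0003c0003e0004000007000020000200002,
  0x1,
  0x3700033000040004400003000020000400002,
  0x1,
  0x1,
  0x480004a00003000040000300002,
  0x1,
  0x4300006000480004e00003000040000400002,
  0x1,
  0x1,
  0x1,
  0x1,
  0x1,
  0xc000520005400056000580005a00007000060000200002,
  0x4c000080000a00001000060000a00002,
  0x1,
  0xf0000d00001000070000300002,
  0x1,
  0x1300011000610000b0005b000060000b0000400002,
  0x5b000660006400004,
  0x640006800004,
  0x16000020000b0000d00002,
  0x1,
  0x6c000690005e000600006e000050000b0000e00002,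
  0x1,
  0x1f0001d00072000020000f0000a00002,
  0x1d0001b00019000170006f00006000100000400002,
  0x6e0007600004,
  0x770002000002000100000d00002,
  0x600007900004,
  0x1,
  0x1,
  0x1,
  0x1,
  0x1,
  0x1,
  0x7e000800008200084000860008800007000130000200002,
  0x1,
  0x1,
  0x29000270008c0008e00003000140000400002,
  0x2b00029000350003800003000150000400002,
  0x1,
  0x2d0002b0008f0009400003000160000400002,
  0x91000450004f00004000170000300002,
  0x2c000970004d00004,
  0x490009a0008f00004,
  0x7c0009b0009400004,
  0x950009e0007300004,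
  0x73000a000004,
  0xa20002200024000890008700006000180000400002,
  0x2f000a30008800004,
  0x31000a50008a00004,
  0x1000a70002300004,
  0x22000aa0004100004,
  0x41000ac00004]

set_option maxRecDepth 100000 in
theorem steps0 : cert.SStepsOK 0 87 :=
  Cert.SStepsOK.of_check _ (codes := scodes0) (by decide +kernel)

end CfsgLib.Spor.HSType.Cert.K0Prod
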